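import Cfsg.Agent.H217.Odm.Eng
import Cfsg.Agent.H463.Tor.TorM
import Cfsg.Agent.NotCT.Orders

/-!
# TEAM ODDM (S4785): `M24` (helper463)
-/

set_option autoImplicit false

namespace Cfsg.Agent.H463.OdmM24

open Subgroup Cfsg Cfsg.Agent.OrdDiv Cfsg.Agent.H453.OddM Cfsg.Agent.H217.Odm Cfsg.Agent.H257.El
open Cfsg.Agent.SporadicStructure.M24El Cfsg.Agent.SporadicA.GolayPerm Cfsg.Agent.SporadicA.GolayBase
open Cfsg.Agent.H729.M24Deg Cfsg.Agent.H729.MData Cfsg.Agent.H729.PairMathieu Cfsg.Agent.H463.TorM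

universe u v

/-- `RealP` is invariant under isomorphisms -/
theorem realP_congr {T : Type u} {S : Type v} [Group T] [Group S] (e : T ≃* S) {k : ℕ} (h : RealP S k) : RealP T k := by
  obtain ⟨x, hx, hr⟩ := h
  exact ⟨e.symm x, by rw [MulEquiv.orderOf_eq, hx], hr.map e.symm.toMonoidHom⟩

def f2 : ℕ := 984778471827487287740443818801498507

theorem okf : ok f2 = true := by decide +kernel
theorem of2 : (el f2) ^ 2 = 1 := el_pow_eq_one okf (by decide +kernel)
theorem oe2' : (el e2) ^ 2 = 1 := el_pow_eq_one ok2 (by decide +kernel)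

theorem real3 : RealP M24 3 := by
  refine ⟨el e2 * el f2, ?_, IsReal.of_mul oe2' of2⟩
  rw [← el_pcomp ok2 okf]
  exact orderOf_el (by norm_num) (ok_pcomp ok2 okf) (by decide +kernel) 1 (by norm_num) (by decide +kernel)

theorem norm11 {x : M24} (hx : orderOf x = 11) :
    Nat.card (normalizer ((zpowers x : Subgroup M24) : Set M24)) = 11 * (1 * 10) ∧ (Even 10 → IsReal x) := by
  refine norm_of_cent (n := 22256640) (c := 1) (e := 10) (by norm_num) ?_ (by norm_num) hx ?_ (by norm_num)
    (by norm_num)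
  · rw [card_M24]
  · rw [card_cent_eleven hx]

/-- transport of the normalizer -/
theorem card_norm_congr {T : Type u} {S : Type v} [Group T] [Group S] (e : T ≃* S) (x : T) :
    Nat.card (normalizer ((zpowers x : Subgroup T) : Set T)) =
      Nat.card (normalizer ((zpowers (e x) : Subgroup S) : Set S)) := by
  refine Nat.card_congr (Equiv.subtypeEquiv e.toEquiv fun y => ?_)
  show y ∈ normalizer ((zpowers x : Subgroup T) : Set T) ↔ e y ∈ normalizer ((zpowers (e x) : Subgroup S) : Set S)
  have hz : ∀ v : T, v ∈ zpowers x ↔ e v ∈ zpowers (e x) := by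
    intro v
    rw [mem_zpowers_iff, mem_zpowers_iff]
    constructor
    · rintro ⟨j, rfl⟩
      exact ⟨j, (map_zpow e x j).symm⟩
    · rintro ⟨j, hj⟩
      exact ⟨j, e.injective (by rw [map_zpow, hj])⟩
  rw [mem_normalizer_iff, mem_normalizer_iff]
  constructor
  · intro h w
    obtain ⟨v, rfl⟩ := e.surjective w
    have h1 := h v
    rw [hz, hz] at h1
    rw [← map_mul, ← map_inv, ← map_mul]
    exact h1
  · intro h v
    have h1 := h (e v)
    rw [← map_mul, ← map_inv, ← map_mul, ← hz, ← hz] at h1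
    exact h1

/-- **The row of `M24`.** -/
theorem row (tab : OrderTable.{u}) (known : Known.{u}) {T : Type u} [Group T] (h : Spor.IsoM24 T) : Row T := by
  have : Finite T := by
    obtain ⟨e⟩ := h
    exact Finite.of_equiv _ e.symm.toEquiv
  obtain ⟨e⟩ := h
  have hc : Nat.card T = 244823040 := by rw [Nat.card_congr e.toEquiv, card_M24]
  refine row_of_two tab known (r := 11) (nu := 10) (ss := [3])
    (l := [(2, 10), (3, 3), (5, 1), (7, 1), (11, 1), (23, 1)]) hc
    (by norm_num) (realP_congr e ⟨_, o11, (norm11 o11).2 (by decide)⟩) (fun x hx => ?_) ?_ (by decide +kernel)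
  · rw [card_norm_congr e, (norm11 (by rw [MulEquiv.orderOf_eq, hx])).1]
  intro s hs
  rw [List.mem_singleton] at hs
  subst hs
  exact ⟨by norm_num, realP_congr e real3,
    noOrd_congr e (noOrd_of_cent (by norm_num) (fun x hx => card_cent_eleven hx) (by norm_num) (by norm_num))⟩

end Cfsg.Agent.H463.OdmM24
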